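import Mathlib
import Cfsg.Agent.S2530

set_option autoImplicit false

/-! Homomorphisms from symmetric groups given by Coxeter chains of involutions -/

namespace Cfsg.Agent.Helper89.TT

open Equiv

variable {G : Type*} [Group G]

theorem inv_of_sq {a : G} (h : a * a = 1) : a⁻¹ = a :=
  inv_eq_of_mul_eq_one_left h

theorem sq_of_comm {a b : G} (ha : a * a = 1) (hb : b * b = 1) (h : a * b = b * a) :
    (a * b) ^ 2 = 1 := by
  rw [pow_two]
  calc a * b * (a * b) = a * (b * a) * b := by simp only [mul_assoc]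
    _ = a * (a * b) * b := by rw [h]
    _ = (a * a) * (b * b) := by simp only [mul_assoc]
    _ = 1 := by rw [ha, hb, one_mul]

theorem comm_of_sq {a b : G} (ha : a * a = 1) (hb : b * b = 1) (h : (a * b) ^ 2 = 1) :
    a * b = b * a := by
  rw [pow_two] at h
  have h1 : a * b = (a * b)⁻¹ := eq_inv_of_mul_eq_one_left h
  rw [mul_inv_rev, inv_of_sq ha, inv_of_sq hb] at h1
  exact h1

theorem cube_swap {a b : G} (ha : a * a = 1) (hb : b * b = 1) (h : (a * b) ^ 3 = 1) :
    (b * a) ^ 3 = 1 := by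
  have : b * a = (a * b)⁻¹ := by rw [mul_inv_rev, inv_of_sq ha, inv_of_sq hb]
  rw [this, inv_pow, h, inv_one]

theorem braid {a b : G} (ha : a * a = 1) (hb : b * b = 1) (h : (a * b) ^ 3 = 1) :
    a * b * a = b * a * b := by
  have h3 : a * b * (a * b) * (a * b) = 1 := by rw [← h, pow_succ, pow_two]
  have : a * b * a = (b * a * b)⁻¹ := by
    apply eq_inv_of_mul_eq_one_left
    simpa only [mul_assoc] using h3
  rw [this, mul_inv_rev, mul_inv_rev, inv_of_sq ha, inv_of_sq hb, mul_assoc]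

theorem cube_of_braid {a b : G} (ha : a * a = 1) (hb : b * b = 1) (h : a * b * a = b * a * b) :
    (a * b) ^ 3 = 1 := by
  rw [pow_succ, pow_two]
  calc a * b * (a * b) * (a * b) = (a * b * a) * (b * a * b) := by simp only [mul_assoc]
    _ = (b * a * b) * (b * a * b) := by rw [h]
    _ = b * a * (b * b) * a * b := by simp only [mul_assoc]
    _ = b * (a * a) * b := by rw [hb, mul_one]; simp only [mul_assoc]
    _ = 1 := by rw [ha, mul_one, hb]

/-- hom from `S₄` given an `A₃` chain -/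
theorem exists_hom_A3 (s1 s2 s3 : G) (h1 : s1 * s1 = 1) (h2 : s2 * s2 = 1) (h3 : s3 * s3 = 1)
    (h13 : s1 * s3 = s3 * s1) (h12 : (s1 * s2) ^ 3 = 1) (h23 : (s2 * s3) ^ 3 = 1) :
    ∃ ψ : Perm (Fin 4) →* G, ψ (swap 0 1) = s1 ∧ ψ (swap 1 2) = s2 ∧ ψ (swap 2 3) = s3 := by
  obtain ⟨cs, hcs⟩ := Cfsg.Agent.S2530.result 3
  have hl : (CoxeterMatrix.A 3).IsLiftable (![s1, s2, s3] : Fin 3 → G) := by
    intro i j
    fin_cases i <;> fin_cases j <;>
      simp [Cfsg.Agent.S2530.A_apply, h1, h2, h3, h12, h23, cube_swap h1 h2 h12,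
        cube_swap h2 h3 h23, sq_of_comm h1 h3 h13, sq_of_comm h3 h1 h13.symm]
  refine ⟨cs.lift ⟨_, hl⟩, ?_, ?_, ?_⟩
  · have := cs.lift_apply_simple hl 0
    rw [hcs 0] at this
    simpa using this
  · have := cs.lift_apply_simple hl 1
    rw [hcs 1] at this
    simpa using this
  · have := cs.lift_apply_simple hl 2
    rw [hcs 2] at this
    simpa using this

/-- hom from `S₅` given an `A₄` chain -/
theorem exists_hom_A4 (s1 s2 s3 s4 : G) (h1 : s1 * s1 = 1) (h2 : s2 * s2 = 1) (h3 : s3 * s3 = 1)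
    (h4 : s4 * s4 = 1)
    (h13 : s1 * s3 = s3 * s1) (h14 : s1 * s4 = s4 * s1) (h24 : s2 * s4 = s4 * s2)
    (h12 : (s1 * s2) ^ 3 = 1) (h23 : (s2 * s3) ^ 3 = 1) (h34 : (s3 * s4) ^ 3 = 1) :
    ∃ ψ : Perm (Fin 5) →* G, ψ (swap 0 1) = s1 ∧ ψ (swap 1 2) = s2 ∧ ψ (swap 2 3) = s3 ∧
      ψ (swap 3 4) = s4 ∧ ψ.range = Subgroup.closure {s1, s2, s3, s4} := by
  obtain ⟨cs, hcs⟩ := Cfsg.Agent.S2530.result 4
  have hl : (CoxeterMatrix.A 4).IsLiftable (![s1, s2, s3, s4] : Fin 4 → G) := by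
    intro i j
    fin_cases i <;> fin_cases j <;>
      simp [Cfsg.Agent.S2530.A_apply, h1, h2, h3, h4, h12, h23, h34, cube_swap h1 h2 h12,
        cube_swap h2 h3 h23, cube_swap h3 h4 h34, sq_of_comm h1 h3 h13,
        sq_of_comm h3 h1 h13.symm, sq_of_comm h1 h4 h14, sq_of_comm h4 h1 h14.symm,
        sq_of_comm h2 h4 h24, sq_of_comm h4 h2 h24.symm]
  have e0 := cs.lift_apply_simple hl 0
  have e1 := cs.lift_apply_simple hl 1
  have e2 := cs.lift_apply_simple hl 2
  have e3 := cs.lift_apply_simple hl 3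
  refine ⟨cs.lift ⟨_, hl⟩, ?_, ?_, ?_, ?_, ?_⟩
  · rw [hcs 0] at e0
    simpa using e0
  · rw [hcs 1] at e1
    simpa using e1
  · rw [hcs 2] at e2
    simpa using e2
  · rw [hcs 3] at e3
    simpa using e3
  · rw [MonoidHom.range_eq_map, ← cs.subgroup_closure_range_simple, MonoidHom.map_closure]
    congr 1
    ext g
    constructor
    · rintro ⟨_, ⟨i, rfl⟩, rfl⟩
      fin_cases i
      · left; exact e0
      · right; left; exact e1
      · right; right; left; exact e2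
      · right; right; right; exact e3
    · rintro (rfl | rfl | rfl | rfl)
      · exact ⟨_, ⟨0, rfl⟩, e0⟩
      · exact ⟨_, ⟨1, rfl⟩, e1⟩
      · exact ⟨_, ⟨2, rfl⟩, e2⟩
      · exact ⟨_, ⟨3, rfl⟩, e3⟩

/-- a hom from `S₅` that does not kill `(0 1)(1 2)` is injective -/
theorem injective_of_S5 (ψ : Perm (Fin 5) →* G) (h : ψ (swap 0 1) ≠ ψ (swap 1 2)) :
    Function.Injective ψ := by
  rw [← MonoidHom.ker_eq_bot_iff]
  by_contra hne
  have hnt : Nontrivial ψ.ker := (Subgroup.nontrivial_iff_ne_bot _).mpr hne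
  have hle := Equiv.Perm.alternatingGroup_le_of_normal (α := Fin 5) (by simp) hnt
  have hmem : swap (0 : Fin 5) 1 * swap 1 2 ∈ alternatingGroup (Fin 5) := by
    rw [Equiv.Perm.mem_alternatingGroup]; decide
  have := hle hmem
  rw [MonoidHom.mem_ker, map_mul] at this
  apply h
  have h2 : ψ (swap 1 2) * ψ (swap 1 2) = 1 := by
    rw [← map_mul, Equiv.swap_mul_self, map_one]
  calc ψ (swap 0 1) = ψ (swap 0 1) * (ψ (swap 1 2) * ψ (swap 1 2)) := by rw [h2, mul_one]
    _ = ψ (swap 1 2) := by rw [← mul_assoc, this, one_mul]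

end Cfsg.Agent.Helper89.TT
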