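import Mathlib
import Cfsg.Prelude.Def_SporadicB
import Cfsg.Prelude.Def_Solvable
import Cfsg.Agent.Lib.Helper89.TT.Hom

set_option autoImplicit false

/-! Sets of 3-transpositions whose local structure is `S₃`: basic facts -/

namespace Cfsg.Agent.Helper89.TT

open Equiv

variable {G : Type*} [Group G]

/-- the members of `D` other than `d` commuting with `d` -/
def Nb (D : Set G) (d : G) : Set G := {y : G | y ∈ D ∧ y ≠ d ∧ Commute d y}

theorem mem_Nb {D : Set G} {d y : G} : y ∈ Nb D d ↔ y ∈ D ∧ y ≠ d ∧ Commute d y := Iff.rfl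

/-- the abstract local hypotheses -/
structure Loc (D : Set G) : Prop where
  sq : ∀ d ∈ D, d * d = 1
  ord : ∀ d ∈ D, ∀ e ∈ D, d * e = e * d ∨ (d * e) ^ 3 = 1
  conj : ∀ g : G, ∀ d ∈ D, g * d * g⁻¹ ∈ D
  s1 : ∀ d ∈ D, ∀ a ∈ Nb D d, ∀ b ∈ Nb D d, a ≠ b → a * b ≠ b * a
  s2 : ∀ d ∈ D, ∀ a ∈ Nb D d, ∀ b ∈ Nb D d, a ≠ b → ∀ y ∈ Nb D d, y = a ∨ y = b ∨ y = a * b * a
  s3 : ∀ d ∈ D, ∃ a ∈ Nb D d, ∃ b ∈ Nb D d, a ≠ b
  s4 : ∀ d ∈ D, ∀ a ∈ Nb D d, ∀ b ∈ Nb D d, ∀ u ∈ Nb D d, ∀ v ∈ Nb D d, a ≠ b → u ≠ v →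
    u * v = a * b ∨ u * v = b * a

theorem S3_f1 : ∀ s t : Perm (Fin 3), s * s = 1 → t * t = 1 → s ≠ 1 → t ≠ 1 → s ≠ t →
    s * t ≠ t * s := by decide

theorem S3_f2' : ∀ s t u : Perm (Fin 3), (s * s = 1 ∧ t * t = 1 ∧ u * u = 1) →
    (s ≠ 1 ∧ t ≠ 1 ∧ u ≠ 1 ∧ s ≠ t) → u = s ∨ u = t ∨ u = s * t * s := by decide

theorem S3_f2 (s t u : Perm (Fin 3)) (h1 : s * s = 1) (h2 : t * t = 1) (h3 : u * u = 1)
    (h4 : s ≠ 1) (h5 : t ≠ 1) (h6 : u ≠ 1) (h7 : s ≠ t) : u = s ∨ u = t ∨ u = s * t * s :=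
  S3_f2' s t u ⟨h1, h2, h3⟩ ⟨h4, h5, h6, h7⟩

theorem S3_f4' : ∀ s t : Perm (Fin 3), (s * s = 1 ∧ t * t = 1) → (s ≠ 1 ∧ t ≠ 1 ∧ s ≠ t) →
    s * t = swap 0 1 * swap 1 2 ∨ s * t = swap 1 2 * swap 0 1 := by
  decide

theorem S3_f4 (s t u v : Perm (Fin 3)) (h1 : s * s = 1) (h2 : t * t = 1) (h3 : u * u = 1)
    (h4 : v * v = 1) (h5 : s ≠ 1) (h6 : t ≠ 1) (h7 : u ≠ 1) (h8 : v ≠ 1) (h9 : s ≠ t)
    (h10 : u ≠ v) : u * v = s * t ∨ u * v = t * s := by
  have hc : (swap (0 : Fin 3) 1 * swap 1 2)⁻¹ = swap 1 2 * swap 0 1 := by decide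
  have hc' : (swap (1 : Fin 3) 2 * swap 0 1)⁻¹ = swap 0 1 * swap 1 2 := by decide
  have hts : t * s = (s * t)⁻¹ := by
    rw [mul_inv_rev, inv_of_sq h1, inv_of_sq h2]
  rcases S3_f4' s t ⟨h1, h2⟩ ⟨h5, h6, h9⟩ with h | h <;>
    rcases S3_f4' u v ⟨h3, h4⟩ ⟨h7, h8, h10⟩ with h' | h'
  · left; rw [h, h']
  · right; rw [hts, h, h', hc]
  · right; rw [hts, h, h', hc']
  · left; rw [h, h']

theorem S3_nc : swap (0 : Fin 3) 1 * swap 1 2 ≠ swap 1 2 * swap 0 1 := by decide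

/-- the local hypotheses follow from the hypotheses of the statement -/
theorem loc_of_hyp {D : Set G} (hD : Cfsg.IsThreeTranspositionSet D)
    (hconj : ∀ g : G, ∀ d ∈ D, g * d * g⁻¹ ∈ D)
    (hloc : ∀ d ∈ D, Nonempty (↥(Subgroup.closure (Nb D d)) ≃* Equiv.Perm (Fin 3))) : Loc D := by
  have hsq : ∀ d ∈ D, d * d = 1 := by
    intro d hd
    have := hD.1 d hd
    rw [← pow_two, ← this]; exact pow_orderOf_eq_one d
  have hne1 : ∀ d ∈ D, d ≠ 1 := by
    intro d hd h1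
    have := hD.1 d hd
    rw [h1, orderOf_one] at this
    omega
  -- transport facts
  have key : ∀ d ∈ D, ∃ φ : ↥(Subgroup.closure (Nb D d)) ≃* Perm (Fin 3),
      ∀ a (ha : a ∈ Nb D d), (φ ⟨a, Subgroup.subset_closure ha⟩) *
        (φ ⟨a, Subgroup.subset_closure ha⟩) = 1 ∧ φ ⟨a, Subgroup.subset_closure ha⟩ ≠ 1 := by
    intro d hd
    obtain ⟨φ⟩ := hloc d hd
    refine ⟨φ, fun a ha => ⟨?_, ?_⟩⟩
    · rw [← map_mul]
      have : (⟨a, Subgroup.subset_closure ha⟩ : ↥(Subgroup.closure (Nb D d))) *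
          ⟨a, Subgroup.subset_closure ha⟩ = 1 := Subtype.ext (hsq a ha.1)
      rw [this, map_one]
    · intro h
      have : (⟨a, Subgroup.subset_closure ha⟩ : ↥(Subgroup.closure (Nb D d))) = 1 := by
        apply φ.injective; rw [h, map_one]
      exact hne1 a ha.1 (congrArg Subtype.val this)
  refine ⟨hsq, ?_, hconj, ?_, ?_, ?_, ?_⟩
  · intro d hd e he
    rcases hD.2 d hd e he with h | h
    · left; exact comm_of_sq (hsq d hd) (hsq e he) h
    · right; exact h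
  · intro d hd a ha b hb hab hc
    obtain ⟨φ, hφ⟩ := key d hd
    have h := S3_f1 _ _ (hφ a ha).1 (hφ b hb).1 (hφ a ha).2 (hφ b hb).2
      (fun h => hab (congrArg Subtype.val (φ.injective h)))
    apply h
    rw [← map_mul, ← map_mul]
    congr 1
    exact Subtype.ext hc
  · intro d hd a ha b hb hab y hy
    obtain ⟨φ, hφ⟩ := key d hd
    have h := S3_f2 _ _ _ (hφ a ha).1 (hφ b hb).1 (hφ y hy).1 (hφ a ha).2 (hφ b hb).2
      (hφ y hy).2 (fun h => hab (congrArg Subtype.val (φ.injective h)))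
    rcases h with h | h | h
    · left; exact congrArg Subtype.val (φ.injective h)
    · right; left; exact congrArg Subtype.val (φ.injective h)
    · right; right
      rw [← map_mul, ← map_mul] at h
      exact congrArg Subtype.val (φ.injective h)
  · intro d hd
    by_contra hcon
    push Not at hcon
    obtain ⟨φ⟩ := hloc d hd
    have hcomm : ∀ x ∈ Nb D d, ∀ y ∈ Nb D d, x * y = y * x := by
      intro x hx y hy
      rw [hcon x hx y hy]
    have hc := (Subgroup.isMulCommutative_closure hcomm).is_comm.comm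
      (φ.symm (swap 0 1)) (φ.symm (swap 1 2))
    apply S3_nc
    have := congrArg φ hc
    rw [map_mul, map_mul, MulEquiv.apply_symm_apply, MulEquiv.apply_symm_apply] at this
    exact this
  · intro d hd a ha b hb u hu v hv hab huv
    obtain ⟨φ, hφ⟩ := key d hd
    have h := S3_f4 _ _ _ _ (hφ a ha).1 (hφ b hb).1 (hφ u hu).1 (hφ v hv).1 (hφ a ha).2
      (hφ b hb).2 (hφ u hu).2 (hφ v hv).2
      (fun h => hab (congrArg Subtype.val (φ.injective h)))
      (fun h => huv (congrArg Subtype.val (φ.injective h)))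
    rcases h with h | h
    · left
      rw [← map_mul, ← map_mul] at h
      exact congrArg Subtype.val (φ.injective h)
    · right
      rw [← map_mul, ← map_mul] at h
      exact congrArg Subtype.val (φ.injective h)

namespace Loc

variable {D : Set G} (L : Loc D)
include L

theorem inv_eq {d : G} (hd : d ∈ D) : d⁻¹ = d := inv_of_sq (L.sq d hd)

theorem cube {d e : G} (hd : d ∈ D) (he : e ∈ D) (h : d * e ≠ e * d) : (d * e) ^ 3 = 1 := by
  rcases L.ord d hd e he with h' | h'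
  · exact absurd h' h
  · exact h'

theorem braid' {d e : G} (hd : d ∈ D) (he : e ∈ D) (h : d * e ≠ e * d) :
    d * e * d = e * d * e :=
  braid (L.sq d hd) (L.sq e he) (L.cube hd he h)

theorem conj_inv {x d : G} (hx : x ∈ D) (hd : d ∈ D) : x * d * x ∈ D := by
  have := L.conj x d hd
  rwa [L.inv_eq hx] at this

omit L in
theorem nb_symm {a d : G} (hd : d ∈ D) (ha : a ∈ Nb D d) : d ∈ Nb D a :=
  ⟨hd, fun h => ha.2.1 h.symm, ha.2.2.symm⟩

omit L in
theorem nb_mem {a d : G} (ha : a ∈ Nb D d) : a ∈ D := ha.1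

/-- conjugation invariance of neighbourhoods -/
theorem conj_nb (g : G) {d y : G} (hy : y ∈ Nb D d) : g * y * g⁻¹ ∈ Nb D (g * d * g⁻¹) := by
  refine ⟨L.conj g y hy.1, ?_, ?_⟩
  · intro h
    apply hy.2.1
    have := congrArg (fun z => g⁻¹ * z * g) h
    simpa [mul_assoc] using this
  · have hc : d * y = y * d := hy.2.2
    change g * d * g⁻¹ * (g * y * g⁻¹) = g * y * g⁻¹ * (g * d * g⁻¹)
    calc g * d * g⁻¹ * (g * y * g⁻¹) = g * (d * y) * g⁻¹ := by simp [mul_assoc]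
      _ = g * (y * d) * g⁻¹ := by rw [hc]
      _ = g * y * g⁻¹ * (g * d * g⁻¹) := by simp [mul_assoc]

theorem conj_nb_iff (g : G) {d y : G} : g * y * g⁻¹ ∈ Nb D (g * d * g⁻¹) ↔ y ∈ Nb D d := by
  constructor
  · intro h
    have := L.conj_nb g⁻¹ h
    simpa [mul_assoc] using this
  · exact L.conj_nb g

/-- the third neighbour -/
theorem third_mem {d a b : G} (ha : a ∈ Nb D d) (hb : b ∈ Nb D d) :
    a * b * a ∈ Nb D d := by
  have h := L.conj_nb a hb
  have h2 : a * d * a⁻¹ = d := by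
    have hc : d * a = a * d := ha.2.2
    rw [← hc, mul_assoc, mul_inv_cancel, mul_one]
  rw [h2, L.inv_eq ha.1] at h
  exact h

theorem third_ne_left {d a b : G} (hd : d ∈ D) (ha : a ∈ Nb D d) (hb : b ∈ Nb D d) (hab : a ≠ b) :
    a * b * a ≠ a := by
  intro h
  apply L.s1 d hd a ha b hb hab
  have h1 : a * b * a * a = a * a := by rw [h]
  rw [mul_assoc, L.sq a ha.1, mul_one] at h1
  -- a * b = 1
  have : b = a := by
    have h2 : a * (a * b) = a * 1 := by rw [h1]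
    rw [← mul_assoc, L.sq a ha.1, one_mul, mul_one] at h2
    exact h2
  exact absurd this.symm hab

theorem third_ne_right {d a b : G} (hd : d ∈ D) (ha : a ∈ Nb D d) (hb : b ∈ Nb D d)
    (hab : a ≠ b) : a * b * a ≠ b := by
  intro h
  apply L.s1 d hd a ha b hb hab
  have h1 : a * b * a * a = b * a := by rw [h]
  rw [mul_assoc, L.sq a ha.1, mul_one] at h1
  exact h1

/-- every neighbourhood is `{a, b, aba}` -/
theorem nb_eq {d a b : G} (hd : d ∈ D) (ha : a ∈ Nb D d) (hb : b ∈ Nb D d) (hab : a ≠ b) :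
    Nb D d = {a, b, a * b * a} := by
  ext y
  constructor
  · intro hy
    rcases L.s2 d hd a ha b hb hab y hy with h | h | h
    · left; exact h
    · right; left; exact h
    · right; right; exact h
  · rintro (rfl | rfl | rfl)
    · exact ha
    · exact hb
    · exact L.third_mem ha hb

/-- two common neighbours force equal neighbourhoods -/
theorem nb_eq_of_two {d x a b : G} (hd : d ∈ D) (hx : x ∈ D) (ha : a ∈ Nb D d)
    (hb : b ∈ Nb D d) (ha' : a ∈ Nb D x) (hb' : b ∈ Nb D x) (hab : a ≠ b) :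
    Nb D x = Nb D d := by
  rw [L.nb_eq hd ha hb hab, L.nb_eq hx ha' hb' hab]

/-- distinct neighbours of a common element do not commute -/
theorem not_comm_of_nb {d a b : G} (hd : d ∈ D) (ha : a ∈ Nb D d) (hb : b ∈ Nb D d)
    (hab : a ≠ b) : a * b ≠ b * a := L.s1 d hd a ha b hb hab

end Loc

end Cfsg.Agent.Helper89.TT
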