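import Mathlib
import Cfsg.Agent.Lib.Helper89.TT.Basic

set_option autoImplicit false

/-! The Klein four argument for 3-transposition sets with local `S₃` -/

namespace Cfsg.Agent.Helper89.TT

open Equiv

variable {G : Type*} [Group G]

theorem invol_cancel_left {t : G} (ht : t * t = 1) (X : G) : t * (t * X) = X := by
  rw [← mul_assoc, ht, one_mul]

namespace Loc

variable {D : Set G} (L : Loc D)
include L

/-- conjugating by the product of a commuting pair, neither member commuting with `e`,
gives a neighbour of `e` -/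
theorem C0 {d a e : G} (hd : d ∈ D) (ha : a ∈ Nb D d) (he : e ∈ D) (hde : d * e ≠ e * d)
    (hae : a * e ≠ e * a) : (d * a) * e * (d * a)⁻¹ ∈ Nb D e := by
  have hda : d * a = a * d := ha.2.2
  have hd2 := L.sq d hd
  have ha2 := L.sq a ha.1
  have he2 := L.sq e he
  obtain ⟨ψ, h1, h2, h3⟩ := exists_hom_A3 d e a hd2 he2 ha2 hda (L.cube hd he hde)
    (L.cube he ha.1 (fun h => hae h.symm))
  refine ⟨L.conj _ e he, ?_, ?_⟩
  · intro h
    have h' : a * e * a = d * e * d := by
      have := congrArg (fun z => d * z * d) h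
      simp only [mul_inv_rev, L.inv_eq ha.1, L.inv_eq hd] at this
      simp only [mul_assoc, hd2, mul_one, invol_cancel_left hd2] at this
      simpa only [mul_assoc] using this
    rw [L.braid' ha.1 he hae, L.braid' hd he hde] at h'
    have : a = d := by
      have := congrArg (fun z => e * z * e) h'
      simp only [mul_assoc, he2, mul_one, invol_cancel_left he2] at this
      exact this
    exact ha.2.1 this
  · have key : (swap 1 2 : Perm (Fin 4)) * ((swap 0 1 * swap 2 3) * swap 1 2 *
        (swap 0 1 * swap 2 3)⁻¹) = ((swap 0 1 * swap 2 3) * swap 1 2 *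
        (swap 0 1 * swap 2 3)⁻¹) * swap 1 2 := by decide
    have := congrArg ψ key
    simp only [map_mul, map_inv, h1, h2, h3] at this
    exact this

omit L in
theorem klein_false (L : Loc D) {e t1 t2 : G} (he : e ∈ D) (ht1 : t1 * t1 = 1)
    (hf1 : t1 * e * t1⁻¹ ∈ Nb D e) (hf2 : t2 * e * t2⁻¹ ∈ Nb D e)
    (hf3 : (t1 * t2) * e * (t1 * t2)⁻¹ ∈ Nb D e) : False := by
  have hinv : t1⁻¹ = t1 := inv_of_sq ht1
  have hf2' : t2 * e * t2⁻¹ = t1 * ((t1 * t2) * e * (t1 * t2)⁻¹) * t1⁻¹ := by
    rw [mul_inv_rev, hinv]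
    simp only [mul_assoc, ht1, mul_one, invol_cancel_left ht1]
  have hne : t1 * e * t1⁻¹ ≠ t2 * e * t2⁻¹ := by
    intro h
    apply hf3.2.1
    have h2 : (t1 * t2) * e * (t1 * t2)⁻¹ = t1 * (t2 * e * t2⁻¹) * t1⁻¹ := by
      rw [mul_inv_rev]; simp only [mul_assoc]
    rw [h2, ← h, hinv]
    simp only [mul_assoc, ht1, mul_one, invol_cancel_left ht1]
  apply L.s1 e he _ hf1 _ hf2 hne
  have hc : e * ((t1 * t2) * e * (t1 * t2)⁻¹) = ((t1 * t2) * e * (t1 * t2)⁻¹) * e := hf3.2.2
  rw [hf2']
  set f3 := (t1 * t2) * e * (t1 * t2)⁻¹ with hf3def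
  rw [hinv]
  calc t1 * e * t1 * (t1 * f3 * t1) = t1 * (e * f3) * t1 := by
        simp only [mul_assoc, invol_cancel_left ht1]
    _ = t1 * (f3 * e) * t1 := by rw [hc]
    _ = t1 * f3 * t1 * (t1 * e * t1) := by
        simp only [mul_assoc, invol_cancel_left ht1]

/-- the Klein four lemma -/
theorem L4 {x y z e : G} (hx : x ∈ D) (hy : y ∈ D) (hz : z ∈ Nb D x) (hxy : x * y ≠ y * x)
    (hyz : y * z ≠ z * y) (he : e ∈ D)
    (h1 : e * x ≠ x * e) (h2 : e * z ≠ z * e) (h3 : e * (y * x * y) ≠ (y * x * y) * e)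
    (h4 : e * (y * z * y) ≠ (y * z * y) * e) (h5 : e * y ≠ y * e)
    (h6 : e * (z * (y * x * y) * z) ≠ (z * (y * x * y) * z) * e) : False := by
  have hxz : x * z = z * x := hz.2.2
  have hx2 := L.sq x hx
  have hy2 := L.sq y hy
  have hz2 := L.sq z hz.1
  obtain ⟨ψ, e1, e2, e3⟩ := exists_hom_A3 x y z hx2 hy2 hz2 hxz (L.cube hx hy hxy)
    (L.cube hy hz.1 hyz)
  have hyxy : y * x * y ∈ D := L.conj_inv hy hx
  have hyzy : y * z * y ∈ Nb D (y * x * y) := by
    have := L.conj_nb y hz
    rwa [L.inv_eq hy] at this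
  have hq : z * (y * x * y) * z ∈ D := L.conj_inv hz.1 hyxy
  have hyq : y ∈ Nb D (z * (y * x * y) * z) := by
    refine ⟨hy, ?_, ?_⟩
    · intro h
      -- y = z y x y z, so z y z = y x y
      have h' : z * y * z = y * x * y := by
        have := congrArg (fun w => z * w * z) h
        simp only [mul_assoc, hz2, mul_one, invol_cancel_left hz2] at this
        simpa only [mul_assoc] using this
      rw [← L.braid' hy hz.1 hyz] at h'
      have : z = x := by
        have := congrArg (fun w => y * w * y) h'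
        simp only [mul_assoc, hy2, mul_one, invol_cancel_left hy2] at this
        exact this
      exact hz.2.1 this
    · have key : (swap 2 3 * (swap 1 2 * swap 0 1 * swap 1 2) * swap 2 3 : Perm (Fin 4)) *
          swap 1 2 = swap 1 2 * (swap 2 3 * (swap 1 2 * swap 0 1 * swap 1 2) * swap 2 3) := by
        decide
      have := congrArg ψ key
      simp only [map_mul, e1, e2, e3] at this
      exact this
  have hprod : (x * z) * ((y * x * y) * (y * z * y)) = (z * (y * x * y) * z) * y := by
    have key : ((swap 0 1 * swap 2 3) * ((swap 1 2 * swap 0 1 * swap 1 2) *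
        (swap 1 2 * swap 2 3 * swap 1 2)) : Perm (Fin 4)) =
        (swap 2 3 * (swap 1 2 * swap 0 1 * swap 1 2) * swap 2 3) * swap 1 2 := by decide
    have := congrArg ψ key
    simp only [map_mul, e1, e2, e3] at this
    exact this
  have hf1 := L.C0 hx hz he (fun h => h1 h.symm) (fun h => h2 h.symm)
  have hf2 := L.C0 hyxy hyzy he (fun h => h3 h.symm) (fun h => h4 h.symm)
  have hf3 := L.C0 hq hyq he (fun h => h6 h.symm) (fun h => h5 h.symm)
  rw [← hprod] at hf3
  have ht1 : (x * z) * (x * z) = 1 := by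
    rw [← pow_two]; exact sq_of_comm hx2 hz2 hxz
  exact klein_false L he ht1 hf1 hf2 hf3

end Loc

end Cfsg.Agent.Helper89.TT
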