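import Mathlib
import Cfsg.Agent.Lib.Helper89.TT.Klein

set_option autoImplicit false
set_option linter.unusedSimpArgs false

/-! The twin case: every element has a twin with the same neighbourhood -/

namespace Cfsg.Agent.Helper89.TT

open Equiv

variable {G : Type*} [Group G]

/-- same block: equal neighbourhoods or neighbours -/
def Rel (D : Set G) (x y : G) : Prop := Nb D x = Nb D y ∨ y ∈ Nb D x

/-- the twin hypothesis -/
def Twin (D : Set G) : Prop := ∀ d ∈ D, ∃ x ∈ D, Nb D x = Nb D d ∧ x ≠ d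

namespace Loc

variable {D : Set G} (L : Loc D)
include L

theorem nb_conj_eq (g : G) {x x' : G} (h : Nb D x = Nb D x') :
    Nb D (g * x * g⁻¹) = Nb D (g * x' * g⁻¹) := by
  ext y
  have e : g * (g⁻¹ * y * g) * g⁻¹ = y := by group
  have key : ∀ z : G, y ∈ Nb D (g * z * g⁻¹) ↔ g⁻¹ * y * g ∈ Nb D z := by
    intro z
    have := L.conj_nb_iff g (d := z) (y := g⁻¹ * y * g)
    rwa [e] at this
  rw [key x, key x', h]

omit L in
theorem side_sub_nb {d a x : G} (hx : x ∈ D) (hxd : Nb D x = Nb D d) (ha : a ∈ Nb D d) :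
    x ∈ Nb D a :=
  nb_symm hx (by rw [hxd]; exact ha)

theorem nb_nb_eq (hK : Twin D) {d a x : G} (hd : d ∈ D) (ha : a ∈ Nb D d) (hx : x ∈ Nb D a) :
    Nb D x = Nb D d := by
  obtain ⟨d', hd'D, hd'N, hd'ne⟩ := hK d hd
  have haD := ha.1
  have hda : d ∈ Nb D a := nb_symm hd ha
  have hd'a : d' ∈ Nb D a := side_sub_nb hd'D hd'N ha
  rcases L.s2 a haD d hda d' hd'a (Ne.symm hd'ne) x hx with h | h | h
  · rw [h]
  · rw [h]; exact hd'N
  · have := L.nb_conj_eq d hd'N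
    rw [L.inv_eq hd] at this
    rw [h, this, mul_assoc, L.sq d hd, mul_one]

omit L in
theorem rel_symm {x y : G} (hx : x ∈ D) (h : Rel D x y) : Rel D y x := by
  rcases h with h | h
  · exact Or.inl h.symm
  · exact Or.inr (nb_symm hx h)

theorem rel_trans (hK : Twin D) {x y z : G} (hx : x ∈ D) (hz : z ∈ D)
    (h1 : Rel D x y) (h2 : Rel D y z) : Rel D x z := by
  rcases h1 with h1 | h1 <;> rcases h2 with h2 | h2
  · exact Or.inl (h1.trans h2)
  · right; rw [h1]; exact h2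
  · right
    have : x ∈ Nb D z := by rw [← h2]; exact nb_symm hx h1
    exact nb_symm hz this
  · left
    exact (L.nb_nb_eq hK hx h1 h2).symm

omit L in
theorem not_comm_of_not_rel {x y : G} (hy : y ∈ D) (h : ¬ Rel D x y) : x * y ≠ y * x := by
  intro hc
  apply h
  by_cases hxy : y = x
  · left; rw [hxy]
  · right; exact ⟨hy, hxy, hc⟩

/-- translation along a side preserves the sides of other blocks -/
theorem K34 (hK : Twin D) {x1 x2 y : G} (hx1 : x1 ∈ D) (hx2 : x2 ∈ D)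
    (h12 : Nb D x1 = Nb D x2) (hy : y ∈ D) (hfar : ¬ Rel D x1 y) :
    (x2 * x1) * y * (x2 * x1)⁻¹ ∈ D ∧ Nb D ((x2 * x1) * y * (x2 * x1)⁻¹) = Nb D y := by
  obtain ⟨a', ha', -⟩ := L.s3 x1 hx1
  have ha'2 : a' ∈ Nb D x2 := by rw [← h12]; exact ha'
  have ha'D := ha'.1
  have hyx1 : x1 * y ≠ y * x1 := not_comm_of_not_rel hy hfar
  have hfar' : ¬ Rel D a' y := fun h => hfar (L.rel_trans hK hx1 hy (Or.inr ha') h)
  have hya' : a' * y ≠ y * a' := not_comm_of_not_rel hy hfar'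
  have hy1 := L.C0 hx1 ha' hy hyx1 hya'
  set y1 := (x1 * a') * y * (x1 * a')⁻¹ with hy1def
  have hy1D := hy1.1
  have hryy1 : Rel D y1 y := Or.inr (nb_symm hy hy1)
  have hfar2 : ¬ Rel D x2 y1 := fun h =>
    hfar (L.rel_trans hK hx1 hy (Or.inl h12) (L.rel_trans hK hx2 hy h hryy1))
  have hfar3 : ¬ Rel D a' y1 := fun h => hfar' (L.rel_trans hK ha'D hy h hryy1)
  have hy2 := L.C0 hx2 ha'2 hy1D (not_comm_of_not_rel hy1D hfar2)
    (not_comm_of_not_rel hy1D hfar3)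
  have hN := L.nb_nb_eq hK hy hy1 hy2
  have hc : x1 * a' = a' * x1 := ha'.2.2
  have heq : (x2 * a') * y1 * (x2 * a')⁻¹ = (x2 * x1) * y * (x2 * x1)⁻¹ := by
    have h1 : (x2 * a') * (x1 * a') = x2 * x1 := by
      rw [hc]; simp only [mul_assoc, invol_cancel_left (L.sq a' ha'D)]
    rw [hy1def, ← h1]; group
  rw [heq] at hy2 hN
  exact ⟨hy2.1, hN⟩

/-- members of a side invert the products of pairs from the side -/
theorem side_inverts {a z y1 y2 : G} (ha : a ∈ D) (hz : z ∈ Nb D a) (h1 : y1 ∈ Nb D a)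
    (h2 : y2 ∈ Nb D a) : z * (y1 * y2) * z⁻¹ = (y1 * y2)⁻¹ := by
  have s1 := L.sq y1 h1.1
  have s2 := L.sq y2 h2.1
  have sz := L.sq z hz.1
  rw [mul_inv_rev, L.inv_eq h1.1, L.inv_eq h2.1, L.inv_eq hz.1]
  by_cases h12 : y1 = y2
  · subst h12
    rw [s1, mul_one, sz]
  · rcases L.s2 a ha y1 h1 y2 h2 h12 z hz with h | h | h
    · rw [h]; simp only [mul_assoc, invol_cancel_left s1]
    · rw [h]; simp only [mul_assoc, s2, mul_one]
    · rw [h]; simp only [mul_assoc, s1, s2, mul_one, invol_cancel_left s1, invol_cancel_left s2]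

/-- the side is one orbit under the products of pairs -/
theorem exists_r {a x x' y : G} (ha : a ∈ D) (hx : x ∈ Nb D a) (hx' : x' ∈ Nb D a)
    (hxx' : x ≠ x') (hy : y ∈ Nb D a) :
    ∃ y1 ∈ Nb D a, ∃ y2 ∈ Nb D a, y = (y1 * y2) * x * (y1 * y2)⁻¹ := by
  have s1 := L.sq x hx.1
  have s2 := L.sq x' hx'.1
  have hbr := L.braid' hx.1 hx'.1 (L.s1 a ha x hx x' hx' hxx')
  rcases L.s2 a ha x hx x' hx' hxx' y hy with h | h | h
  · refine ⟨x, hx, x, hx, ?_⟩
    rw [h, s1]; group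
  · refine ⟨x, hx, x', hx', ?_⟩
    rw [h, mul_inv_rev, L.inv_eq hx.1, L.inv_eq hx'.1]
    calc x' = x' * x * x' * x' * x := by
          simp only [mul_assoc, s1, s2, mul_one]
      _ = x * x' * x * x' * x := by rw [hbr]
      _ = x * x' * x * (x' * x) := by simp only [mul_assoc]
  · refine ⟨x', hx', x, hx, ?_⟩
    rw [h, mul_inv_rev, L.inv_eq hx.1, L.inv_eq hx'.1, hbr]
    simp only [mul_assoc, s1, mul_one, invol_cancel_left s1]

end Loc

/-- the products of pairs with equal neighbourhoods -/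
def gens (D : Set G) : Set G := {w | ∃ x ∈ D, ∃ y ∈ D, Nb D x = Nb D y ∧ w = x * y}

namespace Loc

variable {D : Set G} (L : Loc D)
include L

theorem gens_inv {w : G} (hw : w ∈ gens D) : w⁻¹ ∈ gens D := by
  obtain ⟨x, hx, y, hy, hN, rfl⟩ := hw
  refine ⟨y, hy, x, hx, hN.symm, ?_⟩
  rw [mul_inv_rev, L.inv_eq hx, L.inv_eq hy]

theorem gens_conj (g : G) {w : G} (hw : w ∈ gens D) : g * w * g⁻¹ ∈ gens D := by
  obtain ⟨x, hx, y, hy, hN, rfl⟩ := hw
  refine ⟨g * x * g⁻¹, L.conj g x hx, g * y * g⁻¹, L.conj g y hy, L.nb_conj_eq g hN, ?_⟩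
  group

omit L in
theorem ne_comm_of_twin {x y : G} (hy : y ∈ D) (hN : Nb D x = Nb D y) (hxy : x ≠ y) :
    x * y ≠ y * x := by
  intro hc
  have : y ∈ Nb D x := ⟨hy, fun h => hxy h.symm, hc⟩
  rw [hN] at this
  exact this.2.1 rfl

theorem gens_cube {w : G} (hw : w ∈ gens D) : w ^ 3 = 1 := by
  obtain ⟨x, hx, y, hy, hN, rfl⟩ := hw
  by_cases hxy : x = y
  · subst hxy; rw [L.sq x hx, one_pow]
  · exact L.cube hx hy (ne_comm_of_twin hy hN hxy)

theorem gens_one : (1 : G) ∈ gens D ∨ D = ∅ := by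
  by_cases h : D = ∅
  · right; exact h
  · left
    obtain ⟨x, hx⟩ := Set.nonempty_iff_ne_empty.mpr h
    exact ⟨x, hx, x, hx, rfl, (L.sq x hx).symm⟩

/-- the generators commute pairwise -/
theorem gens_comm (hK : Twin D) {v w : G} (hv : v ∈ gens D) (hw : w ∈ gens D) :
    v * w = w * v := by
  obtain ⟨x1, hx1, x2, hx2, hNx, rfl⟩ := hv
  obtain ⟨y1, hy1, y2, hy2, hNy, rfl⟩ := hw
  by_cases hx12 : x1 = x2
  · subst hx12; rw [L.sq x1 hx1, one_mul, mul_one]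
  by_cases hy12 : y1 = y2
  · subst hy12; rw [L.sq y1 hy1, one_mul, mul_one]
  by_cases hrel : Rel D x1 y1
  · rcases hrel with hrel | hrel
    · -- same side
      obtain ⟨a, ha, -⟩ := L.s3 x1 hx1
      have m1 : x1 ∈ Nb D a := nb_symm hx1 ha
      have m2 : x2 ∈ Nb D a := side_sub_nb hx2 hNx.symm ha
      have m3 : y1 ∈ Nb D a := side_sub_nb hy1 hrel.symm ha
      have m4 : y2 ∈ Nb D a := side_sub_nb hy2 (hNy.symm.trans hrel.symm) ha
      rcases L.s4 a ha.1 x1 m1 x2 m2 y1 m3 y2 m4 hx12 hy12 with h | h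
      · rw [h]
      · rw [h]
        have : x2 * x1 = (x1 * x2)⁻¹ := by rw [mul_inv_rev, L.inv_eq hx1, L.inv_eq hx2]
        rw [this, mul_inv_cancel, inv_mul_cancel]
    · -- adjacent sides
      have c11 : x1 * y1 = y1 * x1 := hrel.2.2
      have hy1x2 : y1 ∈ Nb D x2 := by rw [← hNx]; exact hrel
      have c21 : x2 * y1 = y1 * x2 := hy1x2.2.2
      have hx1y2 : x1 ∈ Nb D y2 := by rw [← hNy]; exact nb_symm hx1 hrel
      have c12 : x1 * y2 = y2 * x1 := hx1y2.2.2.symm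
      have hy2x2 : y2 ∈ Nb D x2 := by rw [← hNx]; exact nb_symm hy2 hx1y2
      have c22 : x2 * y2 = y2 * x2 := hy2x2.2.2
      calc x1 * x2 * (y1 * y2) = x1 * (x2 * y1) * y2 := by simp only [mul_assoc]
        _ = x1 * y1 * (x2 * y2) := by rw [c21]; simp only [mul_assoc]
        _ = y1 * (x1 * y2) * x2 := by rw [c11, c22]; simp only [mul_assoc]
        _ = y1 * y2 * (x1 * x2) := by rw [c12]; simp only [mul_assoc]
  · -- different blocks
    have hfar1 : ¬ Rel D x2 y1 := fun h => hrel (L.rel_trans hK hx1 hy1 (Or.inl hNx) h)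
    have hfar2 : ¬ Rel D x2 y2 := fun h =>
      hfar1 (L.rel_trans hK hx2 hy1 h (Or.inl hNy.symm))
    obtain ⟨k1D, k1N⟩ := L.K34 hK hx2 hx1 hNx.symm hy1 hfar1
    obtain ⟨k2D, k2N⟩ := L.K34 hK hx2 hx1 hNx.symm hy2 hfar2
    set ρ := x1 * x2 with hρ
    obtain ⟨b, hb, -⟩ := L.s3 y1 hy1
    have m1 : y1 ∈ Nb D b := nb_symm hy1 hb
    have m2 : y2 ∈ Nb D b := side_sub_nb hy2 hNy.symm hb
    have m3 : ρ * y1 * ρ⁻¹ ∈ Nb D b := side_sub_nb k1D k1N hb
    have m4 : ρ * y2 * ρ⁻¹ ∈ Nb D b := side_sub_nb k2D (k2N.trans hNy.symm) hb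
    have hne : ρ * y1 * ρ⁻¹ ≠ ρ * y2 * ρ⁻¹ := by
      intro h
      apply hy12
      have := congrArg (fun z => ρ⁻¹ * z * ρ) h
      simpa [mul_assoc] using this
    have hρ3 : ρ ^ 3 = 1 := L.gens_cube ⟨x1, hx1, x2, hx2, hNx, rfl⟩
    have hσ3 : (y1 * y2) ^ 3 = 1 := L.gens_cube ⟨y1, hy1, y2, hy2, hNy, rfl⟩
    set σ := y1 * y2 with hσ
    have hconj : ρ * y1 * ρ⁻¹ * (ρ * y2 * ρ⁻¹) = ρ * σ * ρ⁻¹ := by rw [hσ]; group
    rcases L.s4 b hb.1 y1 m1 y2 m2 _ m3 _ m4 hy12 hne with h | h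
    · rw [hconj] at h
      calc ρ * σ = ρ * σ * ρ⁻¹ * ρ := by group
        _ = σ * ρ := by rw [h]
    · exfalso
      rw [hconj] at h
      have hinv : y2 * y1 = σ⁻¹ := by rw [hσ, mul_inv_rev, L.inv_eq hy1, L.inv_eq hy2]
      rw [hinv] at h
      -- ρ σ ρ⁻¹ = σ⁻¹
      have h1 : ρ * σ⁻¹ * ρ⁻¹ = σ := by
        have := congrArg (fun z => z⁻¹) h
        simp only [mul_inv_rev, inv_inv] at this
        rw [mul_assoc]; exact this
      have h3 : ρ * ρ * ρ * σ * (ρ * ρ * ρ)⁻¹ = σ⁻¹ := by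
        calc ρ * ρ * ρ * σ * (ρ * ρ * ρ)⁻¹ = ρ * (ρ * (ρ * σ * ρ⁻¹) * ρ⁻¹) * ρ⁻¹ := by
              simp only [mul_inv_rev, mul_assoc]
          _ = σ⁻¹ := by rw [h, h1, h]
      have hρ3' : ρ * ρ * ρ = 1 := by rw [← hρ3, pow_succ, pow_two]
      rw [hρ3', one_mul, inv_one, mul_one] at h3
      -- σ = σ⁻¹ and σ^3 = 1
      have hσ1 : σ = 1 := by
        have h2 : σ * σ = 1 := by
          nth_rewrite 1 [h3]; exact inv_mul_cancel σ
        have : σ ^ 3 = σ := by rw [pow_succ, pow_two, h2, one_mul]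
        rw [← this, hσ3]
      apply hy12
      have : y1 * y2 * y2 = y2 := by rw [← hσ, hσ1, one_mul]
      rwa [mul_assoc, L.sq y2 hy2, mul_one] at this

end Loc

end Cfsg.Agent.Helper89.TT
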