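import Mathlib
import Cfsg.Agent.Lib.Helper89.TT.CaseK

set_option autoImplicit false
set_option linter.unusedSimpArgs false

/-! The twin case with a single block: `S₃ × S₃` -/

namespace Cfsg.Agent.Helper89.TT

open Equiv

variable {G : Type*} [Group G]

theorem S3_center : ∀ z : Perm (Fin 3), (∀ g : Perm (Fin 3), g * z = z * g) → z = 1 := by
  decide

namespace Loc

variable {D : Set G} (L : Loc D)
include L

theorem caseKa (hK : Twin D) {d0 : G} (hd0 : d0 ∈ D) (hall : ∀ e ∈ D, Rel D d0 e)
    (hloc : ∀ d ∈ D, Nonempty (↥(Subgroup.closure (Nb D d)) ≃* Perm (Fin 3))) :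
    Nonempty (↥(Subgroup.closure D) ≃* Perm (Fin 3) × Perm (Fin 3)) := by
  obtain ⟨a, ha, -⟩ := L.s3 d0 hd0
  have haD := ha.1
  have hDeq : D = Nb D d0 ∪ Nb D a := by
    ext e
    constructor
    · intro he
      rcases hall e he with h | h
      · right; exact side_sub_nb he h.symm ha
      · left; exact h
    · rintro (h | h)
      · exact h.1
      · exact h.1
  have hcomm : ∀ y ∈ Nb D d0, ∀ x ∈ Nb D a, y * x = x * y := by
    intro y hy x hx
    have hN := L.nb_nb_eq hK hd0 ha hx
    have : y ∈ Nb D x := by rw [hN]; exact hy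
    exact this.2.2.symm
  have hAB : ∀ g ∈ Subgroup.closure (Nb D d0), ∀ h ∈ Subgroup.closure (Nb D a),
      g * h = h * g := by
    intro g hg h hh
    have h1 : ∀ x ∈ Nb D a, g * x = x * g := by
      intro x hx
      induction hg using Subgroup.closure_induction with
      | mem y hy => exact hcomm y hy x hx
      | one => rw [one_mul, mul_one]
      | mul u v _ _ ihu ihv => rw [mul_assoc, ihv, ← mul_assoc, ihu, mul_assoc]
      | inv u _ ih =>
        have := congrArg (fun z => u⁻¹ * z * u⁻¹) ih
        simp only [mul_assoc, mul_inv_cancel, mul_one, inv_mul_cancel_left] at this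
        exact this.symm
    induction hh using Subgroup.closure_induction with
    | mem y hy => exact h1 y hy
    | one => rw [one_mul, mul_one]
    | mul u v _ _ ihu ihv => rw [← mul_assoc, ihu, mul_assoc, ihv, mul_assoc]
    | inv u _ ih =>
      have := congrArg (fun z => u⁻¹ * z * u⁻¹) ih
      simp only [mul_assoc, mul_inv_cancel, mul_one, inv_mul_cancel_left] at this
      exact this.symm
  obtain ⟨φA⟩ := hloc d0 hd0
  obtain ⟨φB⟩ := hloc a haD
  have hcm : ∀ (m : ↥(Subgroup.closure (Nb D d0))) (n : ↥(Subgroup.closure (Nb D a))),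
      Commute ((Subgroup.closure (Nb D d0)).subtype m) ((Subgroup.closure (Nb D a)).subtype n) := by
    intro m n
    exact hAB m.1 m.2 n.1 n.2
  obtain ⟨f, hf⟩ : ∃ f, f = MonoidHom.noncommCoprod (Subgroup.closure (Nb D d0)).subtype
    (Subgroup.closure (Nb D a)).subtype hcm := ⟨_, rfl⟩
  have hrange : f.range = Subgroup.closure D := by
    rw [hf, MonoidHom.noncommCoprod_range, Subgroup.range_subtype, Subgroup.range_subtype,
      ← Subgroup.closure_union, ← hDeq]
  have hdisj : Disjoint (Subgroup.closure (Nb D d0)).subtype.range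
      (Subgroup.closure (Nb D a)).subtype.range := by
    rw [Subgroup.range_subtype, Subgroup.range_subtype, Subgroup.disjoint_def]
    intro z hzA hzB
    have hc : ∀ g : ↥(Subgroup.closure (Nb D d0)), g * ⟨z, hzA⟩ = ⟨z, hzA⟩ * g := by
      intro g
      exact Subtype.ext (hAB g.1 g.2 z hzB)
    have h1 : φA ⟨z, hzA⟩ = 1 := by
      apply S3_center
      intro σ
      have := congrArg φA (hc (φA.symm σ))
      rw [map_mul, map_mul, MulEquiv.apply_symm_apply] at this
      exact this
    have h2 : (⟨z, hzA⟩ : ↥(Subgroup.closure (Nb D d0))) = 1 := by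
      apply φA.injective; rw [h1, map_one]
    exact congrArg Subtype.val h2
  have hinj : Function.Injective f := by
    rw [hf]
    exact (MonoidHom.noncommCoprod_injective _ _ _).mpr
      ⟨Subtype.val_injective, Subtype.val_injective, hdisj⟩
  exact ⟨(MulEquiv.subgroupCongr hrange.symm).trans
    ((MonoidHom.ofInjective hinj).symm.trans (MulEquiv.prodCongr φA φB))⟩

end Loc

end Cfsg.Agent.Helper89.TT
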