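import Mathlib
import Cfsg.Prelude.Def_Solvable
import Cfsg.Agent.Lib.Helper89.TT.CaseK

set_option autoImplicit false
set_option linter.unusedSimpArgs false

/-! The twin case with more than one block is impossible -/

namespace Cfsg.Agent.Helper89.TT

open Equiv

variable {G : Type*} [Group G]

/-- a group of order at most three is generated by any nontrivial element of cube one -/
theorem mem_of_card_le_three {H : Type*} [Group H] [Finite H] (h : Nat.card H ≤ 3) (b n : H)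
    (hb : b ≠ 1) (hb3 : b ^ 3 = 1) : n = 1 ∨ n = b ∨ n = b⁻¹ := by
  have ho : orderOf b = 3 := orderOf_eq_prime hb3 hb
  have hc : Nat.card (Subgroup.zpowers b) = 3 := by rw [Nat.card_zpowers, ho]
  have htop : Subgroup.zpowers b = ⊤ := Subgroup.eq_top_of_le_card _ (by omega)
  have hn : n ∈ Subgroup.zpowers b := by rw [htop]; trivial
  obtain ⟨k, rfl⟩ := Subgroup.mem_zpowers_iff.mp hn
  have hmod := zpow_mod_orderOf b k
  rw [ho] at hmod
  have h0 := Int.emod_nonneg k (by norm_num : ((3 : ℕ) : ℤ) ≠ 0)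
  have h3 := Int.emod_lt_of_pos k (by norm_num : (0 : ℤ) < ((3 : ℕ) : ℤ))
  rw [← hmod]
  have hcases : k % ((3 : ℕ) : ℤ) = 0 ∨ k % ((3 : ℕ) : ℤ) = 1 ∨ k % ((3 : ℕ) : ℤ) = 2 := by
    omega
  rcases hcases with hk | hk | hk
  · left; rw [hk, zpow_zero]
  · right; left; rw [hk, zpow_one]
  · right; right
    rw [hk]
    have : b ^ (2 : ℤ) * b = 1 := by
      rw [← zpow_add_one]; norm_num
      exact_mod_cast hb3
    exact eq_inv_of_mul_eq_one_left this

/-- the subgroup generated by the products of twins -/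
def W (D : Set G) : Subgroup G := Subgroup.closure (gens D)

namespace Loc

variable {D : Set G} (L : Loc D)
include L

theorem W_comm (hK : Twin D) {v w : G} (hv : v ∈ W D) (hw : w ∈ W D) : v * w = w * v := by
  have hcomm : ∀ x ∈ gens D, ∀ y ∈ gens D, x * y = y * x := fun x hx y hy =>
    L.gens_comm hK hx hy
  have := (Subgroup.isMulCommutative_closure hcomm).is_comm.comm ⟨v, hv⟩ ⟨w, hw⟩
  exact congrArg Subtype.val this

theorem W_cube (hK : Twin D) {w : G} (hw : w ∈ W D) : w ^ 3 = 1 := by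
  induction hw using Subgroup.closure_induction with
  | mem x hx => exact L.gens_cube hx
  | one => exact one_pow 3
  | mul x y hx hy ihx ihy =>
    have hc : Commute x y := L.W_comm hK hx hy
    rw [hc.mul_pow, ihx, ihy, one_mul]
  | inv x hx ih => rw [inv_pow, ih, inv_one]

theorem W_conj (g : G) {w : G} (hw : w ∈ W D) : g * w * g⁻¹ ∈ W D := by
  induction hw using Subgroup.closure_induction with
  | mem x hx => exact Subgroup.subset_closure (L.gens_conj g hx)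
  | one => simp [one_mem]
  | mul x y hx hy ihx ihy =>
    have : g * (x * y) * g⁻¹ = (g * x * g⁻¹) * (g * y * g⁻¹) := by group
    rw [this]; exact mul_mem ihx ihy
  | inv x hx ih =>
    have : g * x⁻¹ * g⁻¹ = (g * x * g⁻¹)⁻¹ := by group
    rw [this]; exact inv_mem ih

theorem W_normal : (W D).Normal := ⟨fun _ hn g => L.W_conj g hn⟩

/-- members of `W` centralizing `x` are products of pairs of neighbours of `x` -/
theorem cw_mem [Finite G] (hK : Twin D) {x n : G} (hx : x ∈ D)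
    (hp : Nat.card (Cfsg.pCore 3 ↥(Subgroup.centralizer ({x} : Set G))) = 3)
    (hn : n ∈ W D) (hnx : n * x = x * n) :
    ∃ f1 ∈ Nb D x, ∃ f2 ∈ Nb D x, n = f1 * f2 := by
  obtain ⟨f, hf, f', hf', hff'⟩ := L.s3 x hx
  have hxf : x ∈ Nb D f := nb_symm hx hf
  have hNff' : Nb D f = Nb D f' := (L.nb_nb_eq hK hf.1 hxf hf').symm
  have hβW : f * f' ∈ W D := Subgroup.subset_closure ⟨f, hf.1, f', hf'.1, hNff', rfl⟩
  have hβ3 : (f * f') ^ 3 = 1 := L.W_cube hK hβW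
  have hβ1 : f * f' ≠ 1 := by
    intro h
    apply hff'
    have : f * f' * f' = f' := by rw [h, one_mul]
    rwa [mul_assoc, L.sq f' hf'.1, mul_one] at this
  have hβC : f * f' ∈ Subgroup.centralizer ({x} : Set G) := by
    rw [Subgroup.mem_centralizer_iff]
    intro h hh
    rw [Set.mem_singleton_iff] at hh
    subst hh
    have c1 : h * f = f * h := hf.2.2
    have c2 : h * f' = f' * h := hf'.2.2
    rw [← mul_assoc, c1, mul_assoc, c2, mul_assoc]
  have hnC : n ∈ Subgroup.centralizer ({x} : Set G) := by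
    rw [Subgroup.mem_centralizer_iff]
    intro h hh
    rw [Set.mem_singleton_iff] at hh
    subst hh
    exact hnx.symm
  have hWn : (W D).Normal := L.W_normal
  set C := Subgroup.centralizer ({x} : Set G) with hC
  set N : Subgroup ↥C := (W D).subgroupOf C with hN
  have hNn : N.Normal := hWn.subgroupOf C
  have hNp : IsPGroup 3 N := by
    intro g
    refine ⟨1, ?_⟩
    have hg : (g : ↥C).1 ∈ W D := g.2
    have := L.W_cube hK hg
    apply Subtype.ext
    apply Subtype.ext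
    simpa using this
  have hle : N ≤ Cfsg.pCore 3 ↥C := le_sSup ⟨hNn, hNp⟩
  have hcard : Nat.card N ≤ 3 := by
    rw [← hp]; exact Subgroup.card_le_of_le hle
  obtain ⟨β, hβdef⟩ : ∃ β : N, (β.1.1 : G) = f * f' := ⟨⟨⟨f * f', hβC⟩, hβW⟩, rfl⟩
  obtain ⟨n', hn'def⟩ : ∃ n' : N, (n'.1.1 : G) = n := ⟨⟨⟨n, hnC⟩, hn⟩, rfl⟩
  have hβ1' : β ≠ 1 := by
    intro h
    apply hβ1
    rw [← hβdef, h]
    rfl
  have hβ3' : β ^ 3 = 1 := by
    apply Subtype.ext
    apply Subtype.ext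
    change (β.1.1 : G) ^ 3 = 1
    rw [hβdef, hβ3]
  rcases mem_of_card_le_three hcard β n' hβ1' hβ3' with h | h | h
  · refine ⟨f, hf, f, hf, ?_⟩
    rw [L.sq f hf.1, ← hn'def, h]
    rfl
  · refine ⟨f, hf, f', hf', ?_⟩
    rw [← hn'def, h, hβdef]
  · refine ⟨f', hf', f, hf, ?_⟩
    have h2 : (f * f')⁻¹ = f' * f := by rw [mul_inv_rev, L.inv_eq hf.1, L.inv_eq hf'.1]
    rw [← h2, ← hn'def, h, ← hβdef]
    rfl

/-- two blocks are impossible -/
theorem caseKb_false [Finite G] (hK : Twin D)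
    (hp : ∀ x ∈ D, Nat.card (Cfsg.pCore 3 ↥(Subgroup.centralizer ({x} : Set G))) = 3)
    {d x : G} (hd : d ∈ D) (hx : x ∈ D) (hfar : ¬ Rel D d x) : False := by
  obtain ⟨d', hd'D, hd'N, hd'ne⟩ := hK d hd
  obtain ⟨x', hx'D, hx'N, hx'ne⟩ := hK x hx
  obtain ⟨f, hf, -⟩ := L.s3 x hx
  have hfD := hf.1
  have hxf : x ∈ Nb D f := nb_symm hx hf
  have hx'f : x' ∈ Nb D f := side_sub_nb hx'D hx'N hf
  have hfar' : ¬ Rel D d' x := fun h => hfar (L.rel_trans hK hd hx (Or.inl hd'N.symm) h)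
  obtain ⟨kD, kN⟩ := L.K34 hK hd'D hd hd'N hx hfar'
  obtain ⟨ρ, hρ⟩ : ∃ ρ, ρ = d * d' := ⟨_, rfl⟩
  rw [← hρ] at kD kN
  have hρg : ρ ∈ gens D := ⟨d, hd, d', hd'D, hd'N.symm, hρ⟩
  have hρW : ρ ∈ W D := Subgroup.subset_closure hρg
  have hρ3 : ρ ^ 3 = 1 := L.gens_cube hρg
  have hρ1 : ρ ≠ 1 := by
    intro h
    apply hd'ne
    have : d * (d * d') = d := by rw [← hρ, h, mul_one]
    rw [invol_cancel_left (L.sq d hd)] at this
    exact this
  have kf : ρ * x * ρ⁻¹ ∈ Nb D f := side_sub_nb kD kN hf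
  obtain ⟨y1, hy1, y2, hy2, hr⟩ := L.exists_r hfD hxf hx'f (Ne.symm hx'ne) kf
  obtain ⟨r, hrdef⟩ : ∃ r, r = y1 * y2 := ⟨_, rfl⟩
  rw [← hrdef] at hr
  have hNy1 : Nb D y1 = Nb D x := L.nb_nb_eq hK hx hf hy1
  have hNy2 : Nb D y2 = Nb D x := L.nb_nb_eq hK hx hf hy2
  have hrg : r ∈ gens D := ⟨y1, hy1.1, y2, hy2.1, hNy1.trans hNy2.symm, hrdef⟩
  have hrW : r ∈ W D := Subgroup.subset_closure hrg
  obtain ⟨n, hndef⟩ : ∃ n, n = r⁻¹ * ρ := ⟨_, rfl⟩
  have hnW : n ∈ W D := by rw [hndef]; exact mul_mem (inv_mem hrW) hρW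
  have hnx : n * x = x * n := by
    have : n * x * n⁻¹ = x := by
      rw [hndef]
      calc r⁻¹ * ρ * x * (r⁻¹ * ρ)⁻¹ = r⁻¹ * (ρ * x * ρ⁻¹) * r := by group
        _ = x := by rw [hr]; group
    calc n * x = n * x * n⁻¹ * n := by group
      _ = x * n := by rw [this]
  obtain ⟨f1, hf1, f2, hf2, hn12⟩ := L.cw_mem hK hx (hp x hx) hnW hnx
  have hxr : x * r * x⁻¹ = r⁻¹ := by rw [hrdef]; exact L.side_inverts hfD hxf hy1 hy2
  have hfn : f * n * f⁻¹ = n⁻¹ := by rw [hn12]; exact L.side_inverts hx hf hf1 hf2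
  have hfr : f * r * f⁻¹ = r := by
    have c1 : f * y1 = y1 * f := hy1.2.2
    have c2 : f * y2 = y2 * f := hy2.2.2
    rw [hrdef]
    calc f * (y1 * y2) * f⁻¹ = (f * y1) * y2 * f⁻¹ := by group
      _ = y1 * (f * y2) * f⁻¹ := by rw [c1]; group
      _ = y1 * y2 := by rw [c2]; group
  have hxn : x * n * x⁻¹ = n := by
    rw [← hnx]; group
  have hrn : r * n = n * r := L.W_comm hK hrW hnW
  have hρrn : ρ = r * n := by rw [hndef]; group
  obtain ⟨t, ht⟩ : ∃ t, t = x * f := ⟨_, rfl⟩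
  have hxfc : x * f = f * x := hf.2.2
  have htt : t * t = 1 := by
    rw [ht, ← pow_two]; exact sq_of_comm (L.sq x hx) (L.sq f hfD) hxfc
  have htinv : t⁻¹ = t := inv_of_sq htt
  have htρ : t * ρ * t⁻¹ = ρ⁻¹ := by
    rw [hρrn, ht]
    calc (x * f) * (r * n) * (x * f)⁻¹
        = x * ((f * r * f⁻¹) * (f * n * f⁻¹)) * x⁻¹ := by group
      _ = x * (r * n⁻¹) * x⁻¹ := by rw [hfr, hfn]
      _ = (x * r * x⁻¹) * (x * n * x⁻¹)⁻¹ := by group
      _ = r⁻¹ * n⁻¹ := by rw [hxr, hxn]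
      _ = (n * r)⁻¹ := by group
      _ = (r * n)⁻¹ := by rw [hrn]
  have hfar_f : ¬ Rel D d f := fun h => hfar (L.rel_trans hK hd hx h (Or.inr hxf))
  have hxd : x * d ≠ d * x := fun h => not_comm_of_not_rel hx hfar h.symm
  have hfd : f * d ≠ d * f := fun h => not_comm_of_not_rel hfD hfar_f h.symm
  have ha' := L.C0 hx hf hd hxd hfd
  rw [← ht] at ha'
  obtain ⟨a', ha'def⟩ : ∃ a', a' = t * d * t⁻¹ := ⟨_, rfl⟩
  rw [← ha'def] at ha'
  have ha'2 : a' ∈ Nb D d' := by rw [hd'N]; exact ha'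
  have c1 : d * a' = a' * d := ha'.2.2
  have c2 : d' * a' = a' * d' := ha'2.2.2
  have e1 : a' * ρ * a'⁻¹ = ρ := by
    rw [hρ]
    calc a' * (d * d') * a'⁻¹ = (a' * d) * d' * a'⁻¹ := by group
      _ = d * (a' * d') * a'⁻¹ := by rw [← c1]; group
      _ = d * d' := by rw [← c2]; group
  have hdρ : d * ρ⁻¹ * d⁻¹ = ρ := by
    rw [hρ, mul_inv_rev, L.inv_eq hd, L.inv_eq hd'D]
    simp only [mul_assoc, L.sq d hd, mul_one]
  have e2 : a' * ρ * a'⁻¹ = ρ⁻¹ := by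
    rw [ha'def]
    calc t * d * t⁻¹ * ρ * (t * d * t⁻¹)⁻¹
        = t * (d * (t⁻¹ * ρ * t) * d⁻¹) * t⁻¹ := by group
      _ = t * (d * (t * ρ * t⁻¹) * d⁻¹) * t⁻¹ := by rw [htinv]
      _ = ρ⁻¹ := by rw [htρ, hdρ, htρ]
  have h3 : ρ = ρ⁻¹ := e1.symm.trans e2
  have h2 : ρ * ρ = 1 := by
    nth_rewrite 1 [h3]; exact inv_mul_cancel ρ
  apply hρ1
  have : ρ ^ 3 = ρ := by rw [pow_succ, pow_two, h2, one_mul]
  rw [← this, hρ3]

end Loc

end Cfsg.Agent.Helper89.TT
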