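import Mathlib
import Cfsg.Agent.Lib.Helper89.TT.Klein

set_option autoImplicit false

/-! The `S₅` case -/

namespace Cfsg.Agent.Helper89.TT

open Equiv

variable {G : Type*} [Group G]

namespace Loc

variable {D : Set G} (L : Loc D)
include L

/-- choose a neighbour different from a given element -/
theorem exists_nb_ne {d : G} (hd : d ∈ D) (z : G) : ∃ u ∈ Nb D d, u ≠ z := by
  obtain ⟨u, hu, v, hv, huv⟩ := L.s3 d hd
  by_cases h : u = z
  · exact ⟨v, hv, fun h' => huv (h.trans h'.symm)⟩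
  · exact ⟨u, hu, h⟩

theorem caseP {d0 : G} (hd0 : d0 ∈ D) (hP : ∀ x ∈ D, Nb D x = Nb D d0 → x = d0) :
    Nonempty (↥(Subgroup.closure D) ≃* Perm (Fin 5)) := by
  obtain ⟨a, ha, b, hb, hab⟩ := L.s3 d0 hd0
  have haD : a ∈ D := ha.1
  obtain ⟨a1, ha1, ha1d⟩ := L.exists_nb_ne haD d0
  have hd0a : d0 ∈ Nb D a := nb_symm hd0 ha
  have h_a1d0 : a1 * d0 ≠ d0 * a1 := L.s1 a haD a1 ha1 d0 hd0a ha1d
  have ha1D : a1 ∈ D := ha1.1
  have haa1 : a ∈ Nb D a1 := nb_symm haD ha1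
  have hkey : ∀ b' ∈ Nb D d0, b' ≠ a → a1 * b' ≠ b' * a1 := by
    intro b' hb' hb'a hc
    have hb'a1 : b' ≠ a1 := by
      rintro rfl
      have : d0 * b' = b' * d0 := hb'.2.2
      exact h_a1d0 this.symm
    have h1 : b' ∈ Nb D a1 := ⟨hb'.1, hb'a1, hc⟩
    have := L.nb_eq_of_two hd0 ha1D ha hb' haa1 h1 (Ne.symm hb'a)
    exact ha1d (hP a1 ha1D this)
  obtain ⟨p, hp, hpa⟩ := L.exists_nb_ne ha1D a
  have hpD : p ∈ D := hp.1
  have h_pa : p * a ≠ a * p := L.s1 a1 ha1D p hp a haa1 hpa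
  have h_a1p : a1 * p = p * a1 := hp.2.2
  have h_d0p : d0 * p ≠ p * d0 := by
    intro hc
    have hpd0 : p ≠ d0 := by
      rintro rfl
      exact h_a1d0 h_a1p
    have : p ∈ Nb D d0 := ⟨hpD, hpd0, hc⟩
    exact hkey p this hpa h_a1p
  have h_a1a : a1 * a = a * a1 := haa1.2.2
  have h_d0a : d0 * a = a * d0 := ha.2.2
  have s_a1 := L.sq a1 ha1D
  have s_d0 := L.sq d0 hd0
  have s_p := L.sq p hpD
  have s_a := L.sq a haD
  obtain ⟨ψ, e1, e2, e3, e4, hrange⟩ := exists_hom_A4 a1 d0 p a s_a1 s_d0 s_p s_a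
    h_a1p h_a1a h_d0a (L.cube ha1D hd0 h_a1d0) (L.cube hd0 hpD h_d0p) (L.cube hpD haD h_pa)
  have hinj : Function.Injective ψ := injective_of_S5 ψ (by rw [e1, e2]; exact ha1d)
  -- the set of conjugates of `a1`
  set T : Set G := {t | ∃ σ : Perm (Fin 5), t = ψ σ * a1 * (ψ σ)⁻¹} with hT
  have hTD : ∀ t ∈ T, t ∈ D := by
    rintro t ⟨σ, rfl⟩
    exact L.conj _ _ ha1D
  have hTr : ∀ t ∈ T, t ∈ ψ.range := by
    rintro t ⟨σ, rfl⟩
    refine ⟨σ * swap 0 1 * σ⁻¹, ?_⟩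
    rw [map_mul, map_mul, map_inv, e1]
  have hTc : ∀ τ : Perm (Fin 5), ∀ t ∈ T, ψ τ * t * (ψ τ)⁻¹ ∈ T := by
    rintro τ t ⟨σ, rfl⟩
    refine ⟨τ * σ, ?_⟩
    rw [map_mul, mul_inv_rev]
    simp only [mul_assoc]
  have hTswap : ∀ σ : Perm (Fin 5), ψ (σ * swap 0 1 * σ⁻¹) ∈ T := by
    intro σ
    refine ⟨σ, ?_⟩
    rw [map_mul, map_mul, map_inv, e1]
  have ha1T : a1 ∈ T := ⟨1, by simp⟩
  have hd0T : d0 ∈ T := by
    have := hTswap (swap 0 1 * swap 1 2)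
    have key : (swap 0 1 * swap 1 2 : Perm (Fin 5)) * swap 0 1 * (swap 0 1 * swap 1 2)⁻¹ =
      swap 1 2 := by decide
    rwa [key, e2] at this
  have hpT : p ∈ T := by
    have := hTswap (swap 0 2 * swap 1 3)
    have key : (swap 0 2 * swap 1 3 : Perm (Fin 5)) * swap 0 1 * (swap 0 2 * swap 1 3)⁻¹ =
      swap 2 3 := by decide
    rwa [key, e3] at this
  have haT : a ∈ T := by
    have := hTswap (swap 0 3 * swap 1 4)
    have key : (swap 0 3 * swap 1 4 : Perm (Fin 5)) * swap 0 1 * (swap 0 3 * swap 1 4)⁻¹ =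
      swap 3 4 := by decide
    rwa [key, e4] at this
  -- conjugation by the generators
  have hcd0 : ∀ t ∈ T, d0 * t * d0 ∈ T := by
    intro t ht
    have := hTc (swap 1 2) t ht
    rwa [e2, L.inv_eq hd0] at this
  have hcp : ∀ t ∈ T, p * t * p ∈ T := by
    intro t ht
    have := hTc (swap 2 3) t ht
    rwa [e3, L.inv_eq hpD] at this
  have hca : ∀ t ∈ T, a * t * a ∈ T := by
    intro t ht
    have := hTc (swap 3 4) t ht
    rwa [e4, L.inv_eq haD] at this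
  have hNa1 : ∀ y ∈ Nb D a1, y ∈ T := by
    intro y hy
    rcases L.s2 a1 ha1D a haa1 p hp (Ne.symm hpa) y hy with h | h | h
    · rw [h]; exact haT
    · rw [h]; exact hpT
    · rw [h]; exact hca p hpT
  have hNT : ∀ t ∈ T, ∀ y ∈ Nb D t, y ∈ T := by
    rintro t ⟨σ, rfl⟩ y hy
    have h1 : (ψ σ)⁻¹ * y * ((ψ σ)⁻¹)⁻¹ ∈ Nb D a1 := by
      have := L.conj_nb (ψ σ)⁻¹ hy
      have h2 : (ψ σ)⁻¹ * (ψ σ * a1 * (ψ σ)⁻¹) * ((ψ σ)⁻¹)⁻¹ = a1 := by
        simp [mul_assoc]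
      rwa [h2] at this
    have h3 := hTc σ _ (hNa1 _ h1)
    have h4 : ψ σ * ((ψ σ)⁻¹ * y * ((ψ σ)⁻¹)⁻¹) * (ψ σ)⁻¹ = y := by
      simp [mul_assoc]
    rwa [h4] at h3
  have hDT : ∀ e ∈ D, e ∈ T := by
    intro e he
    by_contra heT
    have hnc : ∀ t ∈ T, e * t ≠ t * e := by
      intro t ht hc
      by_cases het : e = t
      · exact heT (het ▸ ht)
      · exact heT (hNT t ht e ⟨he, het, hc.symm⟩)
    have t1 := hcd0 a1 ha1T
    have t2 := hcd0 p hpT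
    have t3 := hcp _ t1
    exact L.L4 ha1D hd0 hp h_a1d0 h_d0p he (hnc _ ha1T) (hnc _ hpT) (hnc _ t1) (hnc _ t2)
      (hnc _ hd0T) (hnc _ t3)
  have hcl : Subgroup.closure D = ψ.range := by
    apply le_antisymm
    · rw [Subgroup.closure_le]
      intro e he
      exact hTr e (hDT e he)
    · rw [hrange, Subgroup.closure_le]
      rintro x (rfl | rfl | rfl | rfl)
      · exact Subgroup.subset_closure ha1D
      · exact Subgroup.subset_closure hd0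
      · exact Subgroup.subset_closure hpD
      · exact Subgroup.subset_closure haD
  exact ⟨(MulEquiv.subgroupCongr hcl).trans (MonoidHom.ofInjective hinj).symm⟩

end Loc

end Cfsg.Agent.Helper89.TT
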